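import Groth.Agent.Lib.GenusOne15.Hyp
import Groth.Agent.Lib.HypSurf.AffSmooth
import Groth.Agent.Lib.EssDim.ConicCurve
import Groth.Agent.Lib.CI20.Points

/-!
# Diagonal plane cubics with a Hesse term
-/

set_option backward.isDefEq.respectTransparency false
set_option linter.style.haveILetI false
set_option autoImplicit false

universe u

open AlgebraicGeometry CategoryTheory CategoryTheory.Limits TopologicalSpace MvPolynomial
open GrothLib.CurveMult
open GrothLib.Ample (res res_self)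

noncomputable section

namespace GrothLib.GenusOne15

variable {F : Type u} [Field F]

/-- The cubic `a X₀³ + b X₁³ + d X₂³ + w X₀X₁X₂`. -/
def cubic (a b d w : F) : LefPen.Form 2 F 3 :=
  ⟨C a * X 0 ^ 3 + C b * X 1 ^ 3 + C d * X 2 ^ 3 + C w * (X 0 * X 1 * X 2),
    (MvPolynomial.mem_homogeneousSubmodule 3 _).2
      (((((isHomogeneous_C _ a).mul ((isHomogeneous_X F 0).pow 3)).add
        ((isHomogeneous_C _ b).mul ((isHomogeneous_X F 1).pow 3))).add
        ((isHomogeneous_C _ d).mul ((isHomogeneous_X F 2).pow 3))).add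
        ((isHomogeneous_C _ w).mul (((isHomogeneous_X F 0).mul (isHomogeneous_X F 1)).mul (isHomogeneous_X F 2))))⟩

/-- The nondegeneracy condition. -/
def Nondeg (a b d w : F) : Prop :=
  a ≠ 0 ∧ b ≠ 0 ∧ d ≠ 0 ∧ (((3 : F) ≠ 0 ∧ w = 0) ∨ ((3 : F) = 0 ∧ w ≠ 0))

theorem cubic_ne_zero {a b d w : F} (ha : a ≠ 0) : cubic a b d w ≠ 0 := fun h => by
  have h1 := congrArg (fun G : LefPen.Form 2 F 3 => eval ![(1 : F), 0, 0] G.1) h
  simp [cubic, ha] at h1

theorem aff_ne_zero {α β γ w : F} (hγ : γ ≠ 0) :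
    (C α * X 0 ^ 3 + C β * X 1 ^ 3 + C γ + C w * (X 0 * X 1) : MvPolynomial (Fin 2) F) ≠ 0 := fun h => hγ (by
  have h1 := congrArg (eval (fun _ => (0 : F))) h
  simpa using h1)

theorem smooth_aff {α β γ w : F} (h : Nondeg α β γ w) :
    Algebra.Smooth F (MvPolynomial (Fin 2) F ⧸ Ideal.span {C α * X 0 ^ 3 + C β * X 1 ^ 3 + C γ + C w * (X 0 * X 1)}) := by
  obtain ⟨hα, hβ, hγ, hw⟩ := h
  refine (HypSurf.smooth_hypersurface_iff _ (aff_ne_zero hγ)).2 fun q hq hgq => ?_
  by_contra hall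
  push Not at hall
  have hu : ∀ {c : F}, c ≠ 0 → ∀ x : MvPolynomial (Fin 2) F, C c * x ∈ q → x ∈ q := fun hc x h =>
    (hq.mem_or_mem h).resolve_left fun h' => hq.ne_top (q.eq_top_of_isUnit_mem h' ((isUnit_iff_ne_zero.2 hc).map C))
  have d0 : (C (3 * α) * X 0 ^ 2 + C w * X 1 : MvPolynomial (Fin 2) F) ∈ q := by
    convert hall 0 using 1
    simp [pderiv_X_of_ne, map_mul, map_ofNat]
    ring
  have d1 : (C (3 * β) * X 1 ^ 2 + C w * X 0 : MvPolynomial (Fin 2) F) ∈ q := by
    convert hall 1 using 1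
    simp [pderiv_X_of_ne, map_mul, map_ofNat]
    ring
  have hX : X 0 ∈ q ∧ X 1 ∈ q := by
    rcases hw with ⟨h3, rfl⟩ | ⟨h3, hw⟩
    · simp only [map_zero, zero_mul, add_zero] at d0 d1
      exact ⟨hq.mem_of_pow_mem 2 (hu (mul_ne_zero h3 hα) _ d0), hq.mem_of_pow_mem 2 (hu (mul_ne_zero h3 hβ) _ d1)⟩
    · simp only [h3, zero_mul, map_zero, zero_add] at d0 d1
      exact ⟨hu hw _ d1, hu hw _ d0⟩
  refine hq.ne_top (q.eq_top_of_isUnit_mem ?_ ((isUnit_iff_ne_zero.2 hγ).map C))
  have h2 : (C α * X 0 ^ 3 + C β * X 1 ^ 3 + C w * (X 0 * X 1) : MvPolynomial (Fin 2) F) ∈ q :=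
    q.add_mem (q.add_mem (q.mul_mem_left _ (q.pow_mem_of_mem hX.1 3 (by norm_num)))
      (q.mul_mem_left _ (q.pow_mem_of_mem hX.2 3 (by norm_num)))) (q.mul_mem_left _ (q.mul_mem_left _ hX.2))
  convert q.sub_mem hgq h2 using 1
  ring

theorem exists_subst_cubic {a b d w : F} (h : Nondeg a b d w) (j : Fin 3) :
    ∃ α β γ : F, Nondeg α β γ w ∧
      HypSurf.subst j (cubic a b d w).1 = C α * X 0 ^ 3 + C β * X 1 ^ 3 + C γ + C w * (X 0 * X 1) := by
  obtain ⟨ha, hb, hd, hw⟩ := h
  fin_cases j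
  · exact ⟨b, d, a, ⟨hb, hd, ha, hw⟩, by
      simp [HypSurf.subst, cubic]; erw [show (Fin.cons 1 X : Fin 3 → MvPolynomial (Fin 2) F) 2 = X 1 from rfl]; ring⟩
  · refine ⟨a, d, b, ⟨ha, hd, hb, hw⟩, ?_⟩
    simp [HypSurf.subst, cubic, Fin.insertNth, Fin.succAboveCases]
    ring
  · refine ⟨a, b, d, ⟨ha, hb, hd, hw⟩, ?_⟩
    simp [HypSurf.subst, cubic, Fin.insertNth, Fin.succAboveCases]

theorem smooth_cubic {a b d w : F} (h : Nondeg a b d w) : Smooth (hstr (cubic a b d w)) := by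
  refine HypSurf.smooth_of_cover (cubic a b d w) (ι := ULift.{u} (Fin 3))
    (fun i => ⟨LefPen.chart 2 F i.down, HypSurf.isAffineOpen_chart i.down⟩) ?_ fun i => ?_
  · refine eq_top_iff.2 fun p _ => ?_
    obtain ⟨i, hi⟩ := Opens.mem_iSup.1 ((Ample.ProjMap.iSup_basicOpen_X 2 F).ge (Opens.mem_top p))
    exact Opens.mem_iSup.2 ⟨⟨i⟩, hi⟩
  · obtain ⟨α, β, γ, hn, he⟩ := exists_subst_cubic h i.down
    rw [HypSurf.smooth_chart_iff, he]
    exact smooth_aff hn

theorem isProper_cubic (a b d w : F) : IsProper (hstr (cubic a b d w)) := by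
  haveI := Chow.isProper_toSpec 2 F
  infer_instance

theorem cubic_facts {a b d w : F} (h : Nondeg a b d w) :
    IsIntegral (LefPen.hypIdeal (cubic a b d w)).subscheme ∧
      (letI : (LefPen.hypIdeal (cubic a b d w)).subscheme.Over (Spec (CommRingCat.of F)) := ⟨hstr (cubic a b d w)⟩
       Module.finrank F (Coh.HH (LefPen.hypIdeal (cubic a b d w)).subscheme
          (Coh.structureModule (LefPen.hypIdeal (cubic a b d w)).subscheme) 1) = 1) ∧
      topologicalKrullDim (LefPen.hypIdeal (cubic a b d w)).subscheme = 1 := by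
  letI : (LefPen.hypIdeal (cubic a b d w)).subscheme.Over (Spec (CommRingCat.of F)) := ⟨hstr (cubic a b d w)⟩
  haveI : Smooth ((LefPen.hypIdeal (cubic a b d w)).subscheme ↘ Spec (CommRingCat.of F)) := smooth_cubic h
  have hne := cubic_ne_zero (b := b) (d := d) (w := w) h.1
  obtain ⟨-, hint, -⟩ := planeCurve_setup (cubic a b d w) rfl (by norm_num) hne
  have hh := PlaneCohom.finrank_structure (cubic a b d w) rfl (by norm_num) hne
  refine ⟨hint, hh.2.trans rfl, le_antisymm ?_ ?_⟩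
  · haveI : IsIntegral (CohB1.ProjSpace 2 F) := ProjDim.isIntegral_proj F 2
    let j := (LefPen.hypIdeal (cubic a b d w)).subschemeι
    refine EssDim.Conic.topologicalKrullDim_add_one_le j j.isClosedEmbedding (fun hr => ?_) (n := 1)
      (le_of_eq (Groth.Agent.S10829.result F 2))
    haveI : Surjective j := ⟨Set.range_eq_univ.1 hr⟩
    haveI := isIso_of_isClosedImmersion_of_surjective j
    have hker : LefPen.hypIdeal (cubic a b d w) = ⊥ :=
      ((LefPen.hypIdeal (cubic a b d w)).ker_subschemeι).symm.trans (IsClosedImmersion.isIso_iff_ker_eq_bot.1 inferInstance)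
    have h1 := HypSurf.hypIdeal_ideal_eq (cubic a b d w) ⟨LefPen.chart 2 F 2, HypSurf.isAffineOpen_chart 2⟩ 2 le_rfl
    rw [hker, Scheme.IdealSheafData.ideal_bot, Pi.bot_apply, res_self, eq_comm, Ideal.span_singleton_eq_bot] at h1
    obtain ⟨α, β, γ, hn, he⟩ := exists_subst_cubic h 2
    refine aff_ne_zero (α := α) (β := β) (w := w) hn.2.2.1 (he ▸ (HypSurf.emb_bijective 2).1 ?_)
    rw [HypSurf.emb_subst, PnMap.χ_form, map_zero]
    exact h1
  · haveI := hint
    have hci : LefPen.ciIdeal (fun _ : Fin 1 => cubic a b d w) = LefPen.hypIdeal (cubic a b d w) := iSup_const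
    haveI : IrreducibleSpace ↥(LefPen.ciIdeal (fun _ : Fin 1 => cubic a b d w)).subscheme := by
      rw [hci]; infer_instance
    have hC : (Set.univ : Set ↥(LefPen.ciIdeal (fun _ : Fin 1 => cubic a b d w)).subscheme) ∈
        irreducibleComponents _ := by rw [irreducibleComponents_eq_singleton]; rfl
    have h2 := CI20.le_dim_component (fun _ : Fin 1 => cubic a b d w) hC
    rw [IsHomeomorph.topologicalKrullDim_eq _ (Homeomorph.Set.univ _).isHomeomorph, hci] at h2
    exact_mod_cast h2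

theorem Nondeg.map {L : Type u} [Field L] (f : F →+* L) {a b d w : F} (h : Nondeg a b d w) :
    Nondeg (f a) (f b) (f d) (f w) := by
  obtain ⟨ha, hb, hd, hw⟩ := h
  refine ⟨(map_ne_zero f).2 ha, (map_ne_zero f).2 hb, (map_ne_zero f).2 hd, ?_⟩
  rcases hw with ⟨h3, rfl⟩ | ⟨h3, hw⟩
  · exact Or.inl ⟨by rw [← map_ofNat f 3]; exact (map_ne_zero f).2 h3, map_zero f⟩
  · exact Or.inr ⟨by rw [← map_ofNat f 3, h3, map_zero], (map_ne_zero f).2 hw⟩

theorem subC_cubic {L : Type u} [Field L] (f : F →+* L) (c : Fin (2 + 1) → Lˣ) (a b d w : F) :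
    subC f c (cubic a b d w).1 =
      (cubic (f a * (c 0 : L) ^ 3) (f b * (c 1 : L) ^ 3) (f d * (c 2 : L) ^ 3)
        (f w * ((c 0 : L) * (c 1 : L) * (c 2 : L)))).1 := by
  simp only [subC, cubic, map_add, map_mul, map_pow, eval₂Hom_C, eval₂Hom_X', RingHom.comp_apply]
  ring

/-- A diagonal cubic becomes the one with conjugate coefficients over an extension field. -/
theorem exists_isPullback_cubic {L : Type u} [Field L] (f : F →+* L) (c : Fin (2 + 1) → Lˣ) {a b d w : F}
    {a' b' d' w' : L} (ha : f a * (c 0 : L) ^ 3 = a') (hb : f b * (c 1 : L) ^ 3 = b') (hd : f d * (c 2 : L) ^ 3 = d')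
    (hw : f w * ((c 0 : L) * (c 1 : L) * (c 2 : L)) = w') :
    ∃ g, IsPullback g (hstr (cubic a' b' d' w')) (hstr (cubic a b d w)) (Spec.map (CommRingCat.ofHom f)) :=
  exists_isPullback_hyp f c _ _ 1 (by rw [subC_cubic, ha, hb, hd, hw, Units.val_one, map_one, one_mul])

/-- A nondegenerate cubic is a curve of genus one. -/
theorem isCurveOfGenus_cubic {a b d w : F} (h : Nondeg a b d w) :
    ModFun.IsCurveOfGenus 1 (hstr (cubic a b d w)) := by
  refine ⟨smooth_cubic h, isProper_cubic a b d w, ?_, fun Ω _ _ t X i p H => ?_⟩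
  · rw [GeometricallyIrreducible.eq_geometrically]
    intro L _ y Z fst snd hZ
    obtain ⟨f, rfl⟩ := Spec.map_surjective y
    obtain ⟨g, hg⟩ := exists_isPullback_cubic f.hom 1 (a := a) (b := b) (d := d) (w := w)
      (a' := f.hom a) (b' := f.hom b) (d' := f.hom d) (w' := f.hom w) (by simp) (by simp) (by simp) (by simp)
    obtain ⟨hint, -, -⟩ := cubic_facts (h.map f.hom)
    haveI := hint
    haveI : Nonempty Z := ⟨(hg.isoIsPullback _ _ hZ).hom (Classical.arbitrary _)⟩
    haveI : IsIntegral Z := isIntegral_of_isOpenImmersion (hg.isoIsPullback _ _ hZ).inv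
    show IrreducibleSpace Z
    infer_instance
  · obtain ⟨f, rfl⟩ := Spec.map_surjective t
    obtain ⟨g, hg⟩ := exists_isPullback_cubic f.hom 1 (a := a) (b := b) (d := d) (w := w)
      (a' := f.hom a) (b' := f.hom b) (d' := f.hom d) (w' := f.hom w) (by simp) (by simp) (by simp) (by simp)
    obtain ⟨-, -, hdim⟩ := cubic_facts (h.map f.hom)
    refine ⟨?_, ?_⟩
    · rw [← IsHomeomorph.topologicalKrullDim_eq _ (Scheme.homeoOfIso (hg.isoIsPullback _ _ H)).isHomeomorph]
      exact hdim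
    · letI : (LefPen.hypIdeal (cubic a b d w)).subscheme.Over (Spec (CommRingCat.of F)) := ⟨hstr (cubic a b d w)⟩
      letI : X.Over (Spec (CommRingCat.of Ω)) := ⟨p⟩
      haveI := isProper_cubic a b d w
      haveI : IsSeparated ((LefPen.hypIdeal (cubic a b d w)).subscheme ↘ Spec (CommRingCat.of F)) :=
        inferInstanceAs (IsSeparated (hstr (cubic a b d w)))
      haveI : QuasiCompact ((LefPen.hypIdeal (cubic a b d w)).subscheme ↘ Spec (CommRingCat.of F)) :=
        inferInstanceAs (QuasiCompact (hstr (cubic a b d w)))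
      rw [Euler.genus_def, CurveMult.finrank_HH_structure_baseChange f.hom i H 1]
      exact (cubic_facts h).2.1

end GrothLib.GenusOne15
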