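import Groth.Agent.Lib.GenusOne15.Scale
import Groth.Agent.Lib.HypSurf.Chart
import Groth.Agent.Lib.CurveMult.PnMap
import Groth.Agent.Lib.BlowUp.IdealComap

/-!
# Base change of hypersurfaces with a diagonal change of coordinates
-/

set_option backward.isDefEq.respectTransparency false
set_option autoImplicit false

universe u

open AlgebraicGeometry CategoryTheory CategoryTheory.Limits TopologicalSpace MvPolynomial
open GrothLib.Ample (res res_res res_self res_appLE appLE_res)
open GrothLib.Ample.ProjMap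
open GrothLib.ProjSp GrothLib.CurveMult

noncomputable section

namespace GrothLib.GenusOne15

variable {n : ℕ} {K L : Type u} [Field K] [Field L] (φ : K →+* L) (c : Fin (n + 1) → Lˣ)

/-- The substitution `X l ↦ c l • X l` after change of coefficients. -/
def subC : MvPolynomial (Fin (n + 1)) K →+* MvPolynomial (Fin (n + 1)) L :=
  eval₂Hom (C.comp φ) fun l => C (c l : L) * X l

theorem twistMap_app_cD (i : Fin (n + 1))
    (e : SepImm.D (k := L) i ≤ twistMap n φ c ⁻¹ᵁ SepImm.D (k := K) i) (r : K) :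
    ((twistMap n φ c).appLE (SepImm.D (k := K) i) (SepImm.D (k := L) i) e).hom (SepImm.cD i r) =
      SepImm.cD i (φ r) := by
  have htg : ProjUP.toGlobal (CohB1.ProjSpace.toSpec n L) (φ r) =
      ProjUP.toGlobal (twistMap n φ c ≫ CohB1.ProjSpace.toSpec n K) r := by
    rw [twistMap_toSpec]
    refine congrArg ((CohB1.ProjSpace.toSpec n L).appTop).hom ?_
    exact congrArg (fun ψ => ψ.hom r) (Scheme.ΓSpecIso_inv_naturality (CommRingCat.ofHom φ))
  show ((twistMap n φ c).appLE _ _ e).hom (res le_top _) = res le_top _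
  rw [htg, toGlobal_comp]
  refine (appLE_res (twistMap n φ c) le_top e _).trans ?_
  exact (res_comp_scale.res_appLE' (twistMap n φ c) _).symm

theorem twistMap_app_rat (i l : Fin (n + 1))
    (e : SepImm.D (k := L) i ≤ twistMap n φ c ⁻¹ᵁ SepImm.D (k := K) i) :
    ((twistMap n φ c).appLE (SepImm.D (k := K) i) (SepImm.D (k := L) i) e).hom (SepImm.rat i l) =
      SepImm.cD i ((c l * (c i)⁻¹ : Lˣ) : L) * SepImm.rat i l := by
  refine (Data.map_appLE_ratio _ i l (W := SepImm.D (k := L) i) le_rfl e).trans ?_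
  refine (res_self le_rfl _).trans ?_
  show res le_top _ * pullRatio (𝟙 (CohB1.ProjSpace n L)) i l = _
  refine congrArg₂ (· * ·) rfl ?_
  show (Scheme.Hom.appLE (𝟙 (CohB1.ProjSpace n L)) _ _ _).hom _ = _
  simp [Scheme.Hom.appLE]
  rfl

theorem χ_C {F : Type u} [Field F] (i : Fin (n + 1)) (r : F) :
    PnMap.χ F i (C r) = SepImm.cD (n := n) i r := by
  rw [PnMap.χ_apply, eval₂Hom_C]
  exact SepImm.awayToSection_cst i r

theorem χ_X {F : Type u} [Field F] (i l : Fin (n + 1)) : PnMap.χ F i (X l) = SepImm.rat i l := by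
  rw [PnMap.χ_apply, eval₂Hom_X']

theorem twistMap_app_χ (i : Fin (n + 1)) (e : SepImm.D (k := L) i ≤ twistMap n φ c ⁻¹ᵁ SepImm.D (k := K) i)
    (P : MvPolynomial (Fin (n + 1)) K) :
    ((twistMap n φ c).appLE (SepImm.D (k := K) i) (SepImm.D (k := L) i) e).hom (PnMap.χ K i P) =
      PnMap.χ L i (eval₂Hom (C.comp φ) (fun l => C ((c l * (c i)⁻¹ : Lˣ) : L) * X l) P) := by
  induction P using MvPolynomial.induction_on with
  | C r => rw [eval₂Hom_C, RingHom.comp_apply, χ_C, χ_C, twistMap_app_cD]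
  | add p q hp hq => simp only [map_add, hp, hq]
  | mul_X p l hp => rw [map_mul, map_mul, hp, map_mul, map_mul, eval₂Hom_X', map_mul, χ_C, χ_X, χ_X, twistMap_app_rat]

theorem subst_scaled {d : ℕ} (G : LefPen.Form n K d) (i : Fin (n + 1)) :
    eval₂Hom (C.comp φ) (fun l => C ((c l * (c i)⁻¹ : Lˣ) : L) * X l) G.1 =
      C (((c i)⁻¹ : Lˣ) : L) ^ d * subC φ c G.1 := by
  have h := eval₂_mul_of_isHomogeneous (C.comp φ) (C (((c i)⁻¹ : Lˣ) : L))
    (fun l => C (c l : L) * (X l : MvPolynomial (Fin (n + 1)) L)) ((mem_homogeneousSubmodule d G.1).1 G.2)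
  refine Eq.trans ?_ h
  show eval₂ _ _ _ = _
  congr 1
  funext l
  rw [← mul_assoc, ← map_mul, Units.val_mul, mul_comm (c l : L)]

theorem comap_hypIdeal {d : ℕ} (G : LefPen.Form n K d) (G' : LefPen.Form n L d) (e : Lˣ)
    (h : subC φ c G.1 = C (e : L) * G'.1) :
    (LefPen.hypIdeal G).comap (twistMap n φ c) = LefPen.hypIdeal G' := by
  refine Scheme.IdealSheafData.ext_of_iSup_eq_top
    (fun i : Fin (n + 1) => ⟨LefPen.chart n L i, HypSurf.isAffineOpen_chart i⟩)
    (Ample.ProjMap.iSup_basicOpen_X n L) fun i => ?_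
  have he : SepImm.D (k := L) i ≤ twistMap n φ c ⁻¹ᵁ SepImm.D (k := K) i := (twistMap_preimage φ c i).ge
  rw [BlowUp.ideal_comap_eq_map (LefPen.hypIdeal G) (twistMap n φ c)
      ⟨LefPen.chart n K i, HypSurf.isAffineOpen_chart i⟩ ⟨LefPen.chart n L i, HypSurf.isAffineOpen_chart i⟩ he,
    HypSurf.hypIdeal_ideal_eq G _ i le_rfl, HypSurf.hypIdeal_ideal_eq G' _ i le_rfl, Ideal.map_span,
    Set.image_singleton, res_self, res_self, ← PnMap.χ_form, ← PnMap.χ_form]
  show Ideal.span {((twistMap n φ c).appLE (SepImm.D (k := K) i) (SepImm.D (k := L) i) he).hom (PnMap.χ K i G.1)} = _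
  rw [twistMap_app_χ, subst_scaled, h, ← mul_assoc, map_mul]
  exact Ideal.span_singleton_mul_left_unit
    ((((Units.isUnit _).map C).pow d).mul ((Units.isUnit e).map C) |>.map _) _

/-- The structure morphism of a hypersurface. -/
abbrev hstr {d : ℕ} {K : Type u} [Field K] (G : LefPen.Form n K d) :
    (LefPen.hypIdeal G).subscheme ⟶ Spec (CommRingCat.of K) :=
  (LefPen.hypIdeal G).subschemeι ≫ CohB1.ProjSpace.toSpec n K

/-- The twisted base change of a hypersurface. -/
theorem exists_isPullback_hyp {d : ℕ} (G : LefPen.Form n K d) (G' : LefPen.Form n L d) (e : Lˣ)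
    (h : subC φ c G.1 = C (e : L) * G'.1) :
    ∃ g, IsPullback g (hstr G') (hstr G) (Spec.map (CommRingCat.ofHom φ)) := by
  have hc := comap_hypIdeal φ c G G' e h
  let ρ := twistMap n φ c
  let I := LefPen.hypIdeal G
  obtain ⟨g, hg⟩ : ∃ g, IsPullback g (I.comap ρ).subschemeι I.subschemeι ρ :=
    ⟨(I.comapIso ρ).hom ≫ pullback.snd _ _, IsPullback.of_iso
      (IsPullback.of_hasPullback ρ I.subschemeι).flip (I.comapIso ρ).symm (Iso.refl _) (Iso.refl _) (Iso.refl _)
      (by simp only [Iso.refl_hom, Iso.symm_hom, Category.comp_id, Iso.inv_hom_id_assoc])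
      (by simp only [Iso.refl_hom, Iso.symm_hom, Category.comp_id, Scheme.IdealSheafData.comapIso_inv_subschemeι])
      (by simp) (by simp)⟩
  have key : ∀ J, I.comap ρ = J → ∃ g, IsPullback g J.subschemeι I.subschemeι ρ := by
    rintro _ rfl; exact ⟨g, hg⟩
  obtain ⟨g', hg'⟩ := key _ hc
  exact ⟨g', hg'.paste_vert (isPullback_twistMap φ c)⟩

end GrothLib.GenusOne15
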