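import Groth.Agent.Lib.GenusOne15.Cubic
import Mathlib.FieldTheory.RatFunc.Basic

/-!
# Rational points of twisted cubics over a rational function field
-/

set_option backward.isDefEq.respectTransparency false
set_option linter.style.haveILetI false
set_option autoImplicit false

universe u

open AlgebraicGeometry CategoryTheory CategoryTheory.Limits TopologicalSpace MvPolynomial
open GrothLib.CurveMult
open GrothLib.Ample (res res_self)

noncomputable section

namespace GrothLib.GenusOne15

variable {F : Type u} [Field F]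

/-- A rational point of a plane cubic gives a zero of the equation with a coordinate equal to one. -/
theorem exists_zero_of_section {n d : ℕ} (G : LefPen.Form n F d)
    (p : Spec (CommRingCat.of F) ⟶ (LefPen.hypIdeal G).subscheme) (hp : p ≫ hstr G = 𝟙 _) :
    ∃ w : Fin (n + 1) → F, (∃ i, w i = 1) ∧ MvPolynomial.eval w G.1 = 0 := by
  let pt : ↥(Spec (CommRingCat.of F)) := IsLocalRing.closedPoint F
  obtain ⟨i, hi⟩ := Opens.mem_iSup.1 ((Ample.ProjMap.iSup_basicOpen_X n F).ge
    (Opens.mem_top ((p ≫ (LefPen.hypIdeal G).subschemeι) pt)))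
  let ι := (LefPen.hypIdeal G).subschemeι
  let s := p ≫ ι
  have hs : s ≫ CohB1.ProjSpace.toSpec n F = 𝟙 _ := by rw [Category.assoc]; exact hp
  have e : (⊤ : (Spec (CommRingCat.of F)).Opens) ≤ s ⁻¹ᵁ SepImm.D (k := F) i := fun x _ => by
    obtain rfl : x = pt := Subsingleton.elim (α := PrimeSpectrum F) _ _
    exact hi
  let θ : Γ(CohB1.ProjSpace n F, SepImm.D i) →+* F :=
    ((s.appLE (SepImm.D i) ⊤ e) ≫ (Scheme.ΓSpecIso (CommRingCat.of F)).hom).hom
  have hC : ∀ r, θ (SepImm.cD i r) = r := fun r => by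
    show (Scheme.ΓSpecIso (CommRingCat.of F)).hom ((s.appLE _ ⊤ e).hom (res le_top _)) = r
    have h1 : (s.appLE (SepImm.D i) ⊤ e).hom (res le_top (ProjUP.toGlobal (CohB1.ProjSpace.toSpec n F) r)) =
        ProjUP.toGlobal (s ≫ CohB1.ProjSpace.toSpec n F) r := by
      rw [toGlobal_comp]
      refine (GrothLib.Ample.appLE_res s le_top e _).trans ?_
      exact (res_comp_scale.res_appLE' s _).symm.trans (res_self le_rfl _)
    rw [h1, hs]
    simp [ProjUP.toGlobal]
  have hw : ∀ P, θ (PnMap.χ F i P) = MvPolynomial.eval (fun l => θ (SepImm.rat i l)) P := by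
    intro P
    induction P using MvPolynomial.induction_on with
    | C r => rw [χ_C, hC, eval_C]
    | add P Q hP hQ => rw [map_add, map_add, hP, hQ, map_add]
    | mul_X P l hP => rw [map_mul, map_mul, hP, χ_X, map_mul, eval_X]
  refine ⟨fun l => θ (SepImm.rat i l), ⟨i, ?_⟩, ?_⟩
  · show θ (SepImm.rat i i) = 1
    rw [← χ_X, PnMap.χ_self, map_one]
  · rw [← hw, PnMap.χ_form]
    have h0 : (ι.app (SepImm.D i)).hom (LefPen.dehom G i) = 0 := by
      have h1 : LefPen.dehom G i ∈ ι.ker.ideal ⟨LefPen.chart n F i, HypSurf.isAffineOpen_chart i⟩ := by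
        rw [Scheme.IdealSheafData.ker_subschemeι, HypSurf.hypIdeal_ideal_eq G _ i le_rfl, res_self]
        exact Ideal.mem_span_singleton_self _
      rwa [Scheme.Hom.ker_apply] at h1
    have e' : (⊤ : (Spec (CommRingCat.of F)).Opens) ≤ p ⁻¹ᵁ (ι ⁻¹ᵁ SepImm.D i) := e
    have h2 : s.appLE (SepImm.D i) ⊤ e = ι.app (SepImm.D i) ≫ p.appLE (ι ⁻¹ᵁ SepImm.D i) ⊤ e' := by
      rw [Scheme.Hom.app_eq_appLE, Scheme.Hom.appLE_comp_appLE]
    show (Scheme.ΓSpecIso (CommRingCat.of F)).hom ((s.appLE (SepImm.D i) ⊤ e).hom (LefPen.dehom G i)) = 0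
    rw [h2, CommRingCat.comp_apply]
    erw [h0, map_zero, map_zero]

/-- The cubic with two equal coefficients has a rational point. -/
theorem exists_section_cubic (a d w : F) :
    ∃ p : Spec (CommRingCat.of F) ⟶ (LefPen.hypIdeal (cubic a a d w)).subscheme,
      p ≫ hstr (cubic a a d w) = 𝟙 _ := by
  let G := cubic a a d w
  let I := LefPen.hypIdeal G
  let U : (CohB1.ProjSpace 2 F).affineOpens := ⟨LefPen.chart 2 F 0, HypSurf.isAffineOpen_chart 0⟩
  let e : MvPolynomial (Fin 2) F ≃+* Γ(CohB1.ProjSpace 2 F, U.1) := RingEquiv.ofBijective _ (HypSurf.emb_bijective 0)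
  let ev : Γ(CohB1.ProjSpace 2 F, U.1) →+* F := (MvPolynomial.eval ![(-1 : F), 0]).comp e.symm.toRingHom
  have hev : ∀ P, ev (e P) = MvPolynomial.eval ![(-1 : F), 0] P := fun P => by simp [ev]
  have hker : ∀ x ∈ I.ideal U, ev x = 0 := by
    have hle : I.ideal U ≤ RingHom.ker ev := by
      rw [HypSurf.hypIdeal_ideal_eq G U 0 le_rfl, res_self, Ideal.span_singleton_le_iff_mem, ← PnMap.χ_form,
        ← HypSurf.emb_subst, RingHom.mem_ker]
      refine (hev _).trans ?_
      simp [G, cubic, HypSurf.subst]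
      erw [show (Fin.cons 1 X : Fin 3 → MvPolynomial (Fin 2) F) 2 = X 1 from rfl]
      simp
      ring
    exact fun x hx => hle hx
  let ev' := Ideal.Quotient.lift (I.ideal U) ev hker
  refine ⟨Spec.map (CommRingCat.ofHom ev') ≫ I.subschemeCover.f U, ?_⟩
  let cst : F →+* Γ(CohB1.ProjSpace 2 F, U.1) :=
    (res (le_top : U.1 ≤ ⊤)).comp (ProjUP.toGlobal (CohB1.ProjSpace.toSpec 2 F))
  have hcomp : I.subschemeCover.f U ≫ I.subschemeι ≫ CohB1.ProjSpace.toSpec 2 F =
      Spec.map (CommRingCat.ofHom ((Ideal.Quotient.mk (I.ideal U)).comp cst)) := by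
    rw [← Category.assoc, Scheme.IdealSheafData.subschemeCover_map_subschemeι,
      Scheme.IdealSheafData.glueDataObjι_ι, Category.assoc, CommRingCat.ofHom_comp, Spec.map_comp]
    congr 1
    have heq : ∀ (q : CohB1.ProjSpace 2 F ⟶ Spec (CommRingCat.of F)), q = (CohB1.ProjSpace 2 F).toSpecΓ ≫
        Spec.map ((Scheme.ΓSpecIso (CommRingCat.of F)).inv ≫ q.appTop) := fun q => by
      rw [Spec.map_comp, ← Category.assoc, ← Scheme.toSpecΓ_naturality, Category.assoc]
      simp
    conv_lhs => rw [heq (CohB1.ProjSpace.toSpec 2 F)]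
    rw [← Category.assoc, IsAffineOpen.fromSpec_toSpecΓ, ← Spec.map_comp]
    rfl
  show (Spec.map (CommRingCat.ofHom ev') ≫ I.subschemeCover.f U) ≫ I.subschemeι ≫ _ = _
  rw [Category.assoc, hcomp, ← Spec.map_comp, ← CommRingCat.ofHom_comp,
    show ev'.comp ((Ideal.Quotient.mk (I.ideal U)).comp cst) = RingHom.id F from RingHom.ext fun r => ?_]
  · simp
  · show ev (cst r) = r
    have : cst r = e (C r) := by
      show SepImm.cD 0 r = (Proj.awayToSection (CohB1.polyGrading 2 F) (MvPolynomial.X 0)).hom _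
      rw [MvPolynomial.eval₂Hom_C]
      exact (SepImm.awayToSection_cst 0 r).symm
    rw [this, hev, eval_C]

/-- The descent step for `a³ + X b³ + X² c³ + w X a b c = 0`. -/
theorem descent {k : Type u} [Field k] (w : k) : ∀ (m : ℕ) (a b c : Polynomial k),
    a.natDegree + b.natDegree + c.natDegree ≤ m →
    a ^ 3 + Polynomial.X * b ^ 3 + Polynomial.X ^ 2 * c ^ 3 +
      Polynomial.C w * Polynomial.X * (a * b * c) = 0 → a = 0 := by
  intro m
  induction m using Nat.strong_induction_on with
  | _ m ih =>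
    intro a b c hm h
    by_contra ha
    have ha3 : (Polynomial.X : Polynomial k) ∣ a ^ 3 :=
      ⟨-(b ^ 3 + Polynomial.X * c ^ 3 + Polynomial.C w * (a * b * c)), by linear_combination h⟩
    obtain ⟨a', rfl⟩ := Polynomial.prime_X.dvd_of_dvd_pow ha3
    have ha' : a' ≠ 0 := fun h0 => ha (by rw [h0, mul_zero])
    have hdeg := Polynomial.natDegree_mul (Polynomial.X_ne_zero (R := k)) ha'
    rw [Polynomial.natDegree_X] at hdeg
    have h1 : b ^ 3 + Polynomial.X * c ^ 3 + Polynomial.X ^ 2 * a' ^ 3 +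
        Polynomial.C w * Polynomial.X * (b * c * a') = 0 :=
      mul_left_cancel₀ Polynomial.X_ne_zero (by linear_combination h)
    have hb : b = 0 := ih (b.natDegree + c.natDegree + a'.natDegree) (by omega) b c a' le_rfl h1
    subst hb
    have h2 : c ^ 3 + Polynomial.X * a' ^ 3 + Polynomial.X ^ 2 * (0 : Polynomial k) ^ 3 +
        Polynomial.C w * Polynomial.X * (c * a' * 0) = 0 :=
      mul_left_cancel₀ Polynomial.X_ne_zero (by linear_combination h1)
    have hc : c = 0 := ih (c.natDegree + a'.natDegree + (0 : Polynomial k).natDegree)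
      (by rw [Polynomial.natDegree_zero] at hm ⊢; omega) c a' 0 le_rfl h2
    subst hc
    exact ha' (pow_eq_zero_iff (n := 3) (by norm_num) |>.1
      (mul_left_cancel₀ Polynomial.X_ne_zero (by linear_combination h2)))

/-- The equation has only the trivial solution in the rational function field. -/
theorem eq_zero_of_eq {k : Type u} [Field k] (w : k) (z : Fin (2 + 1) → RatFunc k)
    (h : z 0 ^ 3 + RatFunc.X * z 1 ^ 3 + RatFunc.X ^ 2 * z 2 ^ 3 +
      RatFunc.C w * RatFunc.X * (z 0 * z 1 * z 2) = 0) : z = 0 := by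
  classical
  obtain ⟨D, hD⟩ := IsLocalization.exist_integer_multiples_of_finite (nonZeroDivisors (Polynomial k)) z
  choose a ha using hD
  let al := algebraMap (Polynomial k) (RatFunc k)
  have ha' : ∀ i, al (a i) = al D * z i := fun i => (ha i).trans (Algebra.smul_def _ _)
  have heq : a 0 ^ 3 + Polynomial.X * a 1 ^ 3 + Polynomial.X ^ 2 * a 2 ^ 3 +
      Polynomial.C w * Polynomial.X * (a 0 * a 1 * a 2) = 0 := by
    apply IsFractionRing.injective (Polynomial k) (RatFunc k)
    simp only [map_add, map_mul, map_pow, map_zero, RatFunc.algebraMap_X, RatFunc.algebraMap_C]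
    rw [ha' 0, ha' 1, ha' 2]
    linear_combination (al (D : Polynomial k)) ^ 3 * h
  have h0 : a 0 = 0 := descent w _ (a 0) (a 1) (a 2) le_rfl heq
  have h1 : a 1 = 0 := by
    rw [h0] at heq
    exact descent w _ (a 1) (a 2) 0 le_rfl (mul_left_cancel₀ Polynomial.X_ne_zero (by linear_combination heq))
  have h2 : a 2 = 0 := by
    rw [h0, h1] at heq
    refine pow_eq_zero_iff (n := 3) (by norm_num) |>.1 ?_
    exact mul_left_cancel₀ (pow_ne_zero 2 Polynomial.X_ne_zero) (by linear_combination heq)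
  have hD0 : al (D : Polynomial k) ≠ 0 := (map_ne_zero_iff al (IsFractionRing.injective _ _)).2
    (nonZeroDivisors.ne_zero D.2)
  funext i
  have hi : a i = 0 := by fin_cases i <;> assumption
  exact (mul_eq_zero.1 ((ha' i).symm.trans (by rw [hi, map_zero]))).resolve_left hD0

/-- The twisted cubic over the rational function field has no rational point. -/
theorem false_of_section {k : Type u} [Field k] (w : k)
    (p : Spec (CommRingCat.of (RatFunc k)) ⟶
      (LefPen.hypIdeal (cubic (1 : RatFunc k) RatFunc.X (RatFunc.X ^ 2) (RatFunc.C w * RatFunc.X))).subscheme)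
    (hp : p ≫ hstr (cubic (1 : RatFunc k) RatFunc.X (RatFunc.X ^ 2) (RatFunc.C w * RatFunc.X)) = 𝟙 _) : False := by
  obtain ⟨z, ⟨i, hi⟩, hz⟩ := exists_zero_of_section _ p hp
  simp only [cubic, map_add, map_mul, map_pow, eval_C, eval_X, one_mul] at hz
  have h0 := eq_zero_of_eq w z (by linear_combination hz)
  rw [h0] at hi
  exact zero_ne_one hi

end GrothLib.GenusOne15
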