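import Groth.Agent.Lib.ProjSp.OverAffine

/-!
# Base change of projective space composed with a diagonal change of coordinates
-/

set_option backward.isDefEq.respectTransparency false
set_option autoImplicit false

universe u

open AlgebraicGeometry CategoryTheory CategoryTheory.Limits TopologicalSpace Opposite MvPolynomial
open GrothLib.Ample (res res_res res_self res_appLE appLE_res)
open GrothLib.Ample.ProjMap
open GrothLib.ProjSp

noncomputable section

namespace GrothLib.GenusOne15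

variable {n : ℕ}

/-- The chart `X i ≠ 0`. -/
abbrev Ch (n : ℕ) (R : Type u) [CommRing R] (i : Fin (n + 1)) : (CohB1.ProjSpace n R).Opens := (pcoc n R).D ⟨i⟩

theorem toGlobal_comp {R : Type u} [CommRing R] {Z Y : Scheme.{u}} (f : Z ⟶ Y)
    (q : Y ⟶ Spec (CommRingCat.of R)) (r : R) :
    ProjUP.toGlobal (f ≫ q) r = f.appTop (ProjUP.toGlobal q r) := by
  simp [ProjUP.toGlobal]

theorem res_mul_aux {X : Scheme.{u}} {V W : X.Opens} (h : W ≤ V) (a : Γ(X, ⊤)) (b : Γ(X, V)) :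
    res h (res (le_top : V ≤ ⊤) a * b) = res (le_top : W ≤ ⊤) a * res h b := by
  rw [map_mul, res_res]

theorem one_const_mul {X : Scheme.{u}} {L : Type u} [CommRing L] (b : X ⟶ Spec (CommRingCat.of L)) {W : X.Opens}
    (x : Γ(X, W)) : res (le_top : W ≤ ⊤) (ProjUP.toGlobal b ((1 : Lˣ) : L)) * x = x := by
  simp

theorem res_pullRatio_comp {R : Type u} [CommRing R] {Z Y : Scheme.{u}} (f : Z ⟶ Y)
    (r : Y ⟶ CohB1.ProjSpace n R) (i l : Fin (n + 1)) {W : Z.Opens} (h : W ≤ (f ≫ r) ⁻¹ᵁ Ch n R i)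
    (h' : W ≤ f ⁻¹ᵁ (r ⁻¹ᵁ Ch n R i)) :
    res h (pullRatio (f ≫ r) i l) = (f.appLE (r ⁻¹ᵁ Ch n R i) W h').hom (pullRatio r i l) := by
  rw [pullRatio, res_appLE, pullRatio, ← CommRingCat.comp_apply, Scheme.Hom.appLE_comp_appLE]

theorem appLE_pullRatio_id {R : Type u} [CommRing R] {Z : Scheme.{u}} (f : Z ⟶ CohB1.ProjSpace n R)
    (i l : Fin (n + 1)) {W : Z.Opens} (h : W ≤ f ⁻¹ᵁ Ch n R i) :
    (f.appLE ((𝟙 (CohB1.ProjSpace n R)) ⁻¹ᵁ Ch n R i) W h).hom (pullRatio (𝟙 (CohB1.ProjSpace n R)) i l) =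
      res h (pullRatio f i l) := by
  have key : ∀ (g : Z ⟶ CohB1.ProjSpace n R) (hg : g = f) (h₂ : W ≤ g ⁻¹ᵁ Ch n R i),
      res h₂ (pullRatio g i l) = res h (pullRatio f i l) := by
    rintro _ rfl h₂; rfl
  exact (res_pullRatio_comp f (𝟙 _) i l h h).symm.trans (key _ (Category.comp_id f) h)

section Data

variable {R' : Type u} [CommRing R'] {Y Z : Scheme.{u}} {q : Y ⟶ Spec (CommRingCat.of R')}

theorem comp_map_preimage (f : Z ⟶ Y) (D : Data (R := R') n q) (i : Fin (n + 1)) :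
    (f ≫ D.map) ⁻¹ᵁ Ch n R' i = f ⁻¹ᵁ D.U i :=
  (Scheme.Hom.comp_preimage _ _ _).trans (congrArg (f ⁻¹ᵁ ·) (D.map_preimage i))

theorem pullRatio_comp_map (f : Z ⟶ Y) (D : Data (R := R') n q) (i l : Fin (n + 1)) {W : Z.Opens}
    (h : W ≤ (f ≫ D.map) ⁻¹ᵁ Ch n R' i) (h' : W ≤ f ⁻¹ᵁ D.U i) :
    res h (pullRatio (f ≫ D.map) i l) = (f.appLE (D.U i) W h').hom (D.φ i l) := by
  rw [res_pullRatio_comp f D.map i l h h]
  have h1 : pullRatio D.map i l = res (D.map_preimage i).le (D.φ i l) :=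
    D.map_appLE_ratio i l (W := D.map ⁻¹ᵁ Ch n R' i) (D.map_preimage i).le le_rfl
  rw [h1]
  exact appLE_res f (D.map_preimage i).le h _

end Data

variable {R L R' : Type u} [CommRing R] [CommRing L] [CommRing R'] {Z : Scheme.{u}}

/-- The ratios of a morphism, scaled. -/
def scaleData (r : Z ⟶ CohB1.ProjSpace n R) (b : Z ⟶ Spec (CommRingCat.of L)) (q : Z ⟶ Spec (CommRingCat.of R'))
    (c : Fin (n + 1) → Lˣ) : Data (R := R') n q where
  U i := r ⁻¹ᵁ Ch n R i
  φ i l := res (le_top : r ⁻¹ᵁ Ch n R i ≤ ⊤) (ProjUP.toGlobal b ((c l * (c i)⁻¹ : Lˣ) : L)) * pullRatio r i l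
  cover := (dataOfMorphism r q).cover
  self i := by
    rw [(dataOfMorphism r q).self i |> fun h => (show pullRatio r i i = 1 from h)]
    simp
  change i j k W hi hj := by
    simp only [map_mul, res_res]
    rw [show res hi (pullRatio r i k) = res hi (pullRatio r i j) * res hj (pullRatio r j k) from
      (dataOfMorphism r q).change i j k W hi hj,
      show ((c k * (c i)⁻¹ : Lˣ) : L) = ((c j * (c i)⁻¹ : Lˣ) : L) * ((c k * (c j)⁻¹ : Lˣ) : L) by
        rw [← Units.val_mul]; congr 1; rw [mul_comm (c j) ((c i)⁻¹), mul_assoc, mul_comm (c k) ((c j)⁻¹),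
          mul_inv_cancel_left, mul_comm],
      map_mul, map_mul]
    ring
  basicOpen_eq i j := by
    rw [Scheme.basicOpen_mul, Scheme.basicOpen_of_isUnit Z (((Units.isUnit _).map _).map _),
      show Z.basicOpen (pullRatio r i j) = r ⁻¹ᵁ Ch n R i ⊓ r ⁻¹ᵁ Ch n R j from (dataOfMorphism r q).basicOpen_eq i j,
      ← inf_assoc, inf_idem]

theorem res_comp_scale {T : Scheme.{u}} (f : T ⟶ Z) (r : Z ⟶ CohB1.ProjSpace n R) (b : Z ⟶ Spec (CommRingCat.of L))
    (q : Z ⟶ Spec (CommRingCat.of R')) (c : Fin (n + 1) → Lˣ) (i l : Fin (n + 1)) {W : T.Opens}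
    (h : W ≤ f ⁻¹ᵁ (r ⁻¹ᵁ Ch n R i)) :
    (f.appLE (r ⁻¹ᵁ Ch n R i) W h).hom ((scaleData r b q c).φ i l) =
      res le_top (ProjUP.toGlobal (f ≫ b) ((c l * (c i)⁻¹ : Lˣ) : L)) *
        (f.appLE (r ⁻¹ᵁ Ch n R i) W h).hom (pullRatio r i l) := by
  show (f.appLE (r ⁻¹ᵁ Ch n R i) W h).hom (_ * _) = _
  rw [map_mul, toGlobal_comp]
  congr 1
  rw [appLE_res f le_top h]
  exact (res_appLE' f _).symm
where
  res_appLE' {T : Scheme.{u}} (f : T ⟶ Z) (a : Γ(Z, ⊤)) {W : T.Opens} :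
      res (le_top : W ≤ ⊤) (f.appTop a) = (f.appLE ⊤ W le_top).hom a := by
    show res _ ((f.app ⊤).hom a) = _
    rw [Scheme.Hom.app_eq_appLE, res_appLE]

variable (n)

/-- Base change of projective space along `φ`, composed with scaling of the coordinates by `c`. -/
def twistMap (φ : R →+* L) (c : Fin (n + 1) → Lˣ) : CohB1.ProjSpace n L ⟶ CohB1.ProjSpace n R :=
  (scaleData (𝟙 (CohB1.ProjSpace n L)) (CohB1.ProjSpace.toSpec n L)
    (CohB1.ProjSpace.toSpec n L ≫ Spec.map (CommRingCat.ofHom φ)) c).map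

variable {n}

theorem twistMap_toSpec (φ : R →+* L) (c : Fin (n + 1) → Lˣ) :
    twistMap n φ c ≫ CohB1.ProjSpace.toSpec n R = CohB1.ProjSpace.toSpec n L ≫ Spec.map (CommRingCat.ofHom φ) :=
  Data.map_toSpec _

theorem twistMap_preimage (φ : R →+* L) (c : Fin (n + 1) → Lˣ) (i : Fin (n + 1)) :
    twistMap n φ c ⁻¹ᵁ Ch n R i = Ch n L i :=
  Data.map_preimage _ i

theorem comp_twistMap_preimage (φ : R →+* L) (c : Fin (n + 1) → Lˣ) {T : Scheme.{u}}
    (m : T ⟶ CohB1.ProjSpace n L) (i : Fin (n + 1)) :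
    (m ≫ twistMap n φ c) ⁻¹ᵁ Ch n R i = m ⁻¹ᵁ Ch n L i :=
  (Scheme.Hom.comp_preimage _ _ _).trans (congrArg (m ⁻¹ᵁ ·) (twistMap_preimage φ c i))

theorem res_pullRatio_twistMap (φ : R →+* L) (c : Fin (n + 1) → Lˣ) {T : Scheme.{u}}
    (m : T ⟶ CohB1.ProjSpace n L) (b : T ⟶ Spec (CommRingCat.of L)) (hb : m ≫ CohB1.ProjSpace.toSpec n L = b)
    (i l : Fin (n + 1)) {W : T.Opens}
    (h : W ≤ (m ≫ twistMap n φ c) ⁻¹ᵁ Ch n R i) (h' : W ≤ m ⁻¹ᵁ Ch n L i) :
    res h (pullRatio (m ≫ twistMap n φ c) i l) =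
      res le_top (ProjUP.toGlobal b ((c l * (c i)⁻¹ : Lˣ) : L)) * res h' (pullRatio m i l) := by
  subst hb
  refine (pullRatio_comp_map m _ i l h h').trans ?_
  refine (res_comp_scale m _ _ _ c i l h').trans ?_
  exact congrArg (_ * ·) (appLE_pullRatio_id m i l h')

/-- The twisted base change of projective space is cartesian. -/
theorem isPullback_twistMap (φ : R →+* L) (c : Fin (n + 1) → Lˣ) :
    IsPullback (twistMap n φ c) (CohB1.ProjSpace.toSpec n L) (CohB1.ProjSpace.toSpec n R)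
      (Spec.map (CommRingCat.ofHom φ)) := by
  refine ⟨⟨twistMap_toSpec φ c⟩, ⟨PullbackCone.isLimitAux' _ fun s => ?_⟩⟩
  let D := scaleData s.fst s.snd s.snd (fun i => (c i)⁻¹)
  refine ⟨D.map, ?_, D.map_toSpec, fun {m} hm₁ hm₂ => ?_⟩
  · show D.map ≫ twistMap n φ c = s.fst
    refine ext_of_ratios _ _ ?_ (fun k => ?_) fun k j => ?_
    · rw [Category.assoc, twistMap_toSpec, reassoc_of% D.map_toSpec]
      exact s.condition.symm
    · exact ((comp_twistMap_preimage φ c D.map k.down).trans (D.map_preimage k.down)).le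
    · have e : (D.map ≫ twistMap n φ c) ⁻¹ᵁ Ch n R k.down ≤ D.U k.down :=
        ((comp_twistMap_preimage φ c D.map k.down).trans (D.map_preimage k.down)).le
      have e' : (D.map ≫ twistMap n φ c) ⁻¹ᵁ Ch n R k.down ≤ D.map ⁻¹ᵁ Ch n L k.down :=
        (comp_twistMap_preimage φ c D.map k.down).le
      refine (res_self le_rfl _).symm.trans ((res_pullRatio_twistMap φ c D.map s.snd D.map_toSpec k.down j le_rfl e').trans ?_)
      have h1 : pullRatio D.map k.down j = res (D.map_preimage k.down).le (D.φ k.down j) :=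
        D.map_appLE_ratio k.down j (W := D.map ⁻¹ᵁ Ch n L k.down) (D.map_preimage k.down).le le_rfl
      rw [h1]
      refine (congrArg (_ * ·) (res_res _ _ (D.φ k.down j))).trans ?_
      refine (congrArg (_ * ·) (res_mul_aux _ _ _)).trans ?_
      rw [← mul_assoc, ← map_mul, ← map_mul, ← Units.val_mul]
      rw [show c j * (c k.down)⁻¹ * ((c j)⁻¹ * ((c k.down)⁻¹)⁻¹) = 1 by simp [mul_comm, mul_left_comm]]
      exact one_const_mul s.snd _
  · change m ≫ twistMap n φ c = s.fst at hm₁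
    change m ≫ CohB1.ProjSpace.toSpec n L = s.snd at hm₂
    show m = D.map
    refine ext_of_ratios _ _ (hm₂.trans D.map_toSpec.symm) (fun k => ?_) fun k j => ?_
    · exact le_of_eq ((((congrArg (· ⁻¹ᵁ Ch n R k.down) hm₁).symm.trans
        (comp_twistMap_preimage φ c m k.down)).symm).trans (D.map_preimage k.down).symm)
    · have e1 : m ⁻¹ᵁ Ch n L k.down ≤ s.fst ⁻¹ᵁ Ch n R k.down :=
        le_of_eq (((congrArg (· ⁻¹ᵁ Ch n R k.down) hm₁).symm.trans (comp_twistMap_preimage φ c m k.down)).symm)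
      have h1 : pullRatio D.map k.down j = res (D.map_preimage k.down).le (D.φ k.down j) :=
        D.map_appLE_ratio k.down j (W := D.map ⁻¹ᵁ Ch n L k.down) (D.map_preimage k.down).le le_rfl
      rw [h1]
      refine Eq.trans ?_ (res_res _ _ (D.φ k.down j)).symm
      refine Eq.trans ?_ (res_mul_aux e1 _ _).symm
      have key : ∀ (f : s.pt ⟶ CohB1.ProjSpace n R) (hf : m ≫ twistMap n φ c = f)
          (h : m ⁻¹ᵁ Ch n L k.down ≤ f ⁻¹ᵁ Ch n R k.down),
          res h (pullRatio f k.down j) =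
            res le_top (ProjUP.toGlobal s.snd ((c j * (c k.down)⁻¹ : Lˣ) : L)) * pullRatio m k.down j := by
        rintro _ rfl h
        refine (res_pullRatio_twistMap φ c m s.snd hm₂ k.down j h le_rfl).trans ?_
        rw [res_self]
      rw [key s.fst hm₁ e1, ← mul_assoc, ← map_mul, ← map_mul, ← Units.val_mul]
      rw [show (c j)⁻¹ * ((c k.down)⁻¹)⁻¹ * (c j * (c k.down)⁻¹) = 1 by simp [mul_comm, mul_left_comm]]
      simp

end GrothLib.GenusOne15
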